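import Cfsg.Agent.H940.EngData
import Cfsg.Agent.H539.PartCount

/-!
# Simple groups of the orders of `A12`, `A15`, `A16`: bounds for the class numbers (helper574)
-/

set_option autoImplicit false

namespace Cfsg.Agent.H574.S8

open Cfsg Cfsg.Agent.OrdDiv Cfsg.Agent.H940.Eng

/-- the number of multisets with parts in `[2, k]` and sum at most `n` (with fuel) -/
def cnt : ℕ → ℕ → ℕ → ℕ
  | 0, _, _ => 1
  | f + 1, k, n => if k ≤ 1 then 1 else cnt f (k - 1) n + (if k ≤ n then cnt f k (n - k) else 0)

theorem exists_finset (f : ℕ) : ∀ k n : ℕ, k + n ≤ f + 1 → ∃ F : Finset (Multiset ℕ), F.card ≤ cnt f k n ∧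
    ∀ s : Multiset ℕ, (∀ x ∈ s, 2 ≤ x ∧ x ≤ k) → s.sum ≤ n → s ∈ F := by
  have base : ∀ k n : ℕ, k ≤ 1 → ∃ F : Finset (Multiset ℕ), F.card ≤ 1 ∧
      ∀ s : Multiset ℕ, (∀ x ∈ s, 2 ≤ x ∧ x ≤ k) → s.sum ≤ n → s ∈ F := by
    intro k n hk
    refine ⟨{0}, by simp, ?_⟩
    intro s hs _
    rw [Finset.mem_singleton]
    refine Multiset.eq_zero_of_forall_notMem ?_
    intro a ha
    have h2 := hs a ha
    omega
  induction f with
  | zero =>
    intro k n h
    exact base k n (by omega)
  | succ f ih =>
    intro k n h
    rw [cnt]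
    by_cases hk : k ≤ 1
    · rw [if_pos hk]
      exact base k n hk
    · rw [if_neg hk]
      obtain ⟨F0, hF0, hm0⟩ := ih (k - 1) n (by omega)
      by_cases hn : k ≤ n
      · rw [if_pos hn]
        obtain ⟨F1, hF1, hm1⟩ := ih k (n - k) (by omega)
        classical
        refine ⟨F0 ∪ F1.image (fun t => k ::ₘ t), ?_, ?_⟩
        · exact (Finset.card_union_le _ _).trans (Nat.add_le_add hF0 (Finset.card_image_le.trans hF1))
        · intro s hs hsum
          rw [Finset.mem_union]
          by_cases hks : k ∈ s
          · right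
            obtain ⟨t, rfl⟩ := Multiset.exists_cons_of_mem hks
            rw [Finset.mem_image]
            rw [Multiset.sum_cons] at hsum
            exact ⟨t, hm1 t (fun x hx => hs x (Multiset.mem_cons_of_mem hx)) (by omega), rfl⟩
          · left
            refine hm0 s (fun x hx => ?_) hsum
            have h1 := hs x hx
            have h2 : x ≠ k := fun h => hks (h ▸ hx)
            omega
      · rw [if_neg hn]
        refine ⟨F0, by omega, ?_⟩
        intro s hs hsum
        refine hm0 s (fun x hx => ?_) hsum
        have h1 := hs x hx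
        have h3 := Multiset.single_le_sum (fun x _ => Nat.zero_le x) x hx
        omega

theorem card_classes_perm_le (n : ℕ) : Nat.card (ConjClasses (Equiv.Perm (Fin n))) ≤ cnt (n + n) n n := by
  obtain ⟨F, hF, hm⟩ := exists_finset (n + n) n n (by omega)
  refine le_trans ?_ hF
  let f : ConjClasses (Equiv.Perm (Fin n)) → F := fun c =>
    ⟨(Quotient.out c : Equiv.Perm (Fin n)).cycleType, hm _
      (fun x hx => ⟨Equiv.Perm.two_le_of_mem_cycleType hx, by
        have h1 := Equiv.Perm.sum_cycleType_le (Quotient.out c : Equiv.Perm (Fin n))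
        have h2 := Multiset.single_le_sum (fun x _ => Nat.zero_le x) x hx
        rw [Fintype.card_fin] at h1
        omega⟩)
      (by
        have h1 := Equiv.Perm.sum_cycleType_le (Quotient.out c : Equiv.Perm (Fin n))
        rwa [Fintype.card_fin] at h1)⟩
  have hf : Function.Injective f := by
    intro c d h
    have h1 : (Quotient.out c : Equiv.Perm (Fin n)).cycleType = (Quotient.out d : Equiv.Perm (Fin n)).cycleType :=
      congrArg Subtype.val h
    rw [← Equiv.Perm.isConj_iff_cycleType_eq] at h1
    rw [← Quotient.out_eq c, ← Quotient.out_eq d]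
    exact ConjClasses.mk_eq_mk_iff_isConj.2 h1
  have := Nat.card_le_card_of_injective f hf
  simpa using this

theorem card_classes_alt_lt (n : ℕ) (hn : 5 ≤ n) :
    Nat.card (ConjClasses (alternatingGroup (Fin n))) < cnt (n + n) n n :=
  (Cfsg.Agent.H539.PartCount.card_conjClasses_alternating_lt (by simpa using hn)).trans_le (card_classes_perm_le n)

theorem nonab {M : Type} [Group M] (hs : IsSimpleGroup M) (hc : ¬ (Nat.card M).Prime) :
    ¬ ∀ a b : M, a * b = b * a := by
  intro h
  let _ : CommGroup M := { (inferInstance : Group M) with mul_comm := h }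
  exact hc (IsSimpleGroup.prime_card (α := M))

theorem classes_congr {G : Type} {H : Type} [Group G] [Group H] (e : G ≃* H) :
    Nat.card (ConjClasses G) = Nat.card (ConjClasses H) := by
  refine Nat.card_congr ⟨ConjClasses.map e.toMonoidHom, ConjClasses.map e.symm.toMonoidHom, ?_, ?_⟩
  · intro c
    obtain ⟨g, rfl⟩ := ConjClasses.exists_rep c
    exact congrArg ConjClasses.mk (e.symm_apply_apply g)
  · intro c
    obtain ⟨g, rfl⟩ := ConjClasses.exists_rep c
    exact congrArg ConjClasses.mk (e.apply_symm_apply g)

/-- recognition of a simple group by its order -/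
theorem recog (B : Base) {M : Type} [Group M] [Finite M] (hs : IsSimpleGroup M) {N : ℕ} (hN : ¬ N.Prime)
    (hc : Nat.card M = N) {l : List (ℕ × ℕ)} (hv : valid l N = true) {n : ℕ}
    (h : ((cands l N).filter fun g => Nat.beq (ordN g) N) = [Grp.alt n]) :
    Nonempty (M ≃* ↥(alternatingGroup (Fin n))) := by
  obtain ⟨g, hg, hr⟩ := exists_real_filter B.table (B.known M hs) (nonab hs (hc ▸ hN)) hv (hc ▸ dvd_rfl)
    (fun k => Nat.beq k N) (by rw [hc]; exact Nat.beq_refl N)
  rw [h, List.mem_singleton] at hg
  subst hg
  exact hr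

theorem k_of (B : Base) {M : Type} [Group M] [Finite M] (hs : IsSimpleGroup M) {N : ℕ} (hN : ¬ N.Prime)
    (hc : Nat.card M = N) {l : List (ℕ × ℕ)} (hv : valid l N = true) {n : ℕ}
    (h : ((cands l N).filter fun g => Nat.beq (ordN g) N) = [Grp.alt n]) (hn : 5 ≤ n) :
    Nat.card (ConjClasses M) < cnt (n + n) n n := by
  obtain ⟨e⟩ := recog B hs hN hc hv h
  rw [classes_congr e]
  exact card_classes_alt_lt n hn

set_option maxRecDepth 100000 in
/-- the class number of `A12` is less than that of `S12`, which is `77` -/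
theorem kb12' (B : Base) {M : Type} [Group M] [Finite M] (hs : IsSimpleGroup M) (hc : Nat.card M = 239500800) :
    Nat.card (ConjClasses M) ≤ 76 := by
  have h := k_of B hs (by norm_num) hc (l := [(2, 9), (3, 5), (5, 2), (7, 1), (11, 1)]) (by decide +kernel)
    (n := 12) (by decide +kernel) (by norm_num)
  have h2 : cnt (12 + 12) 12 12 = 77 := by decide +kernel
  omega

theorem kb12 (B : Base) {M : Type} [Group M] [Finite M] (hs : IsSimpleGroup M) (hc : Nat.card M = 239500800) :
    Nat.card (ConjClasses M) ≤ 114 := (kb12' B hs hc).trans (by norm_num)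

set_option maxRecDepth 100000 in
/-- the class number of `A15` is less than that of `S15`, which is `176` -/
theorem kb15' (B : Base) {M : Type} [Group M] [Finite M] (hs : IsSimpleGroup M) (hc : Nat.card M = 653837184000) :
    Nat.card (ConjClasses M) ≤ 175 := by
  have h := k_of B hs (by norm_num) hc (l := [(2, 10), (3, 6), (5, 3), (7, 2), (11, 1), (13, 1)]) (by decide +kernel)
    (n := 15) (by decide +kernel) (by norm_num)
  have h2 : cnt (15 + 15) 15 15 = 176 := by decide +kernel
  omega

theorem kb15 (B : Base) {M : Type} [Group M] [Finite M] (hs : IsSimpleGroup M) (hc : Nat.card M = 653837184000) :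
    Nat.card (ConjClasses M) ≤ 1335 := (kb15' B hs hc).trans (by norm_num)

set_option maxRecDepth 100000 in
/-- the class number of `A16` is less than that of `S16`, which is `231` -/
theorem kb16' (B : Base) {M : Type} [Group M] [Finite M] (hs : IsSimpleGroup M) (hc : Nat.card M = 10461394944000) :
    Nat.card (ConjClasses M) ≤ 230 := by
  have h := k_of B hs (by norm_num) hc (l := [(2, 14), (3, 6), (5, 3), (7, 2), (11, 1), (13, 1)]) (by decide +kernel)
    (n := 16) (by decide +kernel) (by norm_num)
  have h2 : cnt (16 + 16) 16 16 = 231 := by decide +kernel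
  omega

theorem kb16 (B : Base) {M : Type} [Group M] [Finite M] (hs : IsSimpleGroup M) (hc : Nat.card M = 10461394944000) :
    Nat.card (ConjClasses M) ≤ 3974 := (kb16' B hs hc).trans (by norm_num)

end Cfsg.Agent.H574.S8
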